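import Mathlib.RingTheory.Spectrum.Prime.FreeLocus
import Mathlib.RingTheory.LocalProperties.FinitePresentation
import Mathlib.RingTheory.Nakayama
import Groth.Prelude.Def_PP16
import Groth.Agent.PPLib.SymPow
import Groth.Agent.LinType.QReg

/-!
# Quasi-regular ideals and symmetric powers of the conormal module
-/

set_option linter.style.haveILetI false

universe u

open MvPolynomial Groth.Agent.PPLib

namespace Groth.Agent.H1QRSym

variable {R : Type u} [CommRing R] {J : Ideal R}

/-- A local presentation of `J` over `D(g)` by a quasi-regular sequence, without localisations. -/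
structure Dat (J : Ideal R) (g : R) {r : ℕ} (a : Fin r → R) : Prop where
  mem : ∀ i, a i ∈ J
  gen : ∀ x ∈ J, ∃ N : ℕ, g ^ N * x ∈ Ideal.span (Set.range a)
  qr : ∀ (n : ℕ) (P : MvPolynomial (Fin r) R), P.IsHomogeneous n → eval a P ∈ J ^ (n + 1) →
    ∀ d, ∃ N : ℕ, g ^ N * P.coeff d ∈ J

lemma algebraMap_mem_map_away (g : R) (I : Ideal R) (x : R) :
    algebraMap R (Localization.Away g) x ∈ I.map (algebraMap R (Localization.Away g)) ↔
      ∃ N : ℕ, g ^ N * x ∈ I := by
  rw [IsLocalization.algebraMap_mem_map_algebraMap_iff (Submonoid.powers g)]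
  exact ⟨fun ⟨_, ⟨N, rfl⟩, h⟩ => ⟨N, h⟩, fun ⟨N, h⟩ => ⟨_, ⟨N, rfl⟩, h⟩⟩

theorem exists_dat (hq : PP16.IsLocallyQuasiRegular R J) (P : Ideal R) [P.IsPrime] (hP : J ≤ P) :
    ∃ (g : R) (r : ℕ) (a : Fin r → R), g ∉ P ∧ Dat J g a := by
  obtain ⟨g, hg, r, f, hf, hspan⟩ := hq P hP
  let S := Localization.Away g
  let φ := algebraMap R S
  have hfm : ∀ i, ∃ x : J × Submonoid.powers g, f i * φ x.2 = φ x.1 := fun i =>
    (IsLocalization.mem_map_algebraMap_iff (Submonoid.powers g) S).1
      (hspan ▸ Ideal.subset_span ⟨i, rfl⟩)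
  choose x hx using hfm
  let a : Fin r → R := fun i => (x i).1
  have hJ : Ideal.span (Set.range fun i => φ (a i)) = J.map φ := by
    refine le_antisymm ?_ ?_
    · refine Ideal.span_le.2 ?_
      rintro _ ⟨i, rfl⟩
      exact Ideal.mem_map_of_mem φ (x i).1.2
    · rw [← hspan]
      refine Ideal.span_le.2 ?_
      rintro _ ⟨i, rfl⟩
      refine (Ideal.mul_unit_mem_iff_mem _ (IsLocalization.map_units S (x i).2)).1 ?_
      rw [hx i]
      exact Ideal.subset_span ⟨i, rfl⟩
  have hJ' : J.map φ = (Ideal.span (Set.range a)).map φ := by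
    rw [Ideal.map_span, ← Set.range_comp]
    exact hJ.symm
  have hqa := LinType.isQuasiRegular_of_span_eq f (fun i => φ (a i)) hf (hJ.trans hspan.symm)
  refine ⟨g, r, a, hg, ⟨fun i => (x i).1.2, fun y hy => ?_, fun n Q hQ hev d => ?_⟩⟩
  · exact (algebraMap_mem_map_away g _ y).1 (hJ' ▸ Ideal.mem_map_of_mem φ hy)
  · refine (algebraMap_mem_map_away g _ _).1 ?_
    have h := hqa n (MvPolynomial.map φ Q) (hQ.map φ) ?_ d
    · rwa [coeff_map, hJ] at h
    · rw [hJ, ← Ideal.map_pow]
      have : eval (fun i => φ (a i)) (MvPolynomial.map φ Q) = φ (eval a Q) := by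
        rw [eval_map]; exact (eval₂_comp φ a Q).symm
      rw [this]
      exact Ideal.mem_map_of_mem φ hev

theorem fg_of_dat (h : ∀ (P : Ideal R), P.IsPrime → J ≤ P →
    ∃ (g : R) (r : ℕ) (a : Fin r → R), g ∉ P ∧ Dat J g a) : J.FG := by
  classical
  let G : Set R := {g | ∃ T : Finset R, (∀ t ∈ T, t ∈ J) ∧
    ∀ x ∈ J, ∃ N : ℕ, g ^ N * x ∈ Ideal.span (T : Set R)}
  have hG : Ideal.span G = ⊤ := by
    by_contra hne
    obtain ⟨P, hP, hle⟩ := Ideal.exists_le_maximal _ hne
    by_cases hJP : J ≤ P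
    · obtain ⟨g, r, a, hg, hd⟩ := h P hP.isPrime hJP
      refine hg (hle (Ideal.subset_span ⟨Finset.univ.image a, ?_, ?_⟩))
      · simpa using hd.mem
      · simpa using hd.gen
    · obtain ⟨j, hj, hjP⟩ := SetLike.not_le_iff_exists.1 hJP
      refine hjP (hle (Ideal.subset_span ⟨{j}, by simpa using hj, fun x _ => ⟨1, ?_⟩⟩))
      simpa using Ideal.mul_mem_right x _ (Ideal.subset_span (Set.mem_singleton j))
  obtain ⟨s, hsG, hs1⟩ := Submodule.mem_span_finite_of_mem_span ((Ideal.eq_top_iff_one _).1 hG)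
  choose T hTJ hT using fun g : (s : Set R) => hsG g.2
  let U : Finset R := Finset.univ.biUnion T
  refine ⟨U, le_antisymm (Ideal.span_le.2 fun t ht => ?_) fun x hx => ?_⟩
  · obtain ⟨g, _, ht⟩ := Finset.mem_biUnion.1 ht
    exact hTJ g t ht
  · let A : Ideal R := Submodule.comap (LinearMap.toSpanSingleton R R x) (Ideal.span (U : Set R))
    have hA : Ideal.span (s : Set R) ≤ A.radical := by
      refine Ideal.span_le.2 fun g hg => ?_
      obtain ⟨N, hN⟩ := hT ⟨g, hg⟩ x hx
      refine ⟨N, show g ^ N * x ∈ Ideal.span (U : Set R) from Ideal.span_mono (fun t ht => ?_) hN⟩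
      exact Finset.mem_biUnion.2 ⟨_, Finset.mem_univ _, ht⟩
    have h1 : (1 : R) ∈ A := by
      obtain ⟨N, hN⟩ := hA hs1
      simpa using hN
    simpa [A] using h1

section Cotangent

/-- A representative of a class in `J/J²`. -/
noncomputable def rep (m : J.Cotangent) : J := Function.surjInv J.toCotangent_surjective m

lemma toCotangent_rep (m : J.Cotangent) : J.toCotangent (rep m) = m :=
  Function.surjInv_eq J.toCotangent_surjective m

lemma mk_smul (c : R) (m : J.Cotangent) : (Ideal.Quotient.mk J c) • m = c • m :=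
  (algebraMap_smul (R ⧸ J) c m)

lemma smul_eq_zero {c : R} (hc : c ∈ J) (m : J.Cotangent) : c • m = 0 := by
  rw [← mk_smul, Ideal.Quotient.eq_zero_iff_mem.2 hc, zero_smul]

lemma toCotangent_sum {κ : Type*} (s : Finset κ) (c : κ → R) (a : κ → J) :
    J.toCotangent (∑ i ∈ s, c i • a i) = ∑ i ∈ s, c i • J.toCotangent (a i) := by
  simp only [map_sum, map_smul]

theorem exists_smul_eq_sum {g : R} {r : ℕ} {a : Fin r → R} (hd : Dat J g a) (m : J.Cotangent) :
    ∃ (N : ℕ) (c : Fin r → R), g ^ N • m = ∑ i, c i • J.toCotangent ⟨a i, hd.mem i⟩ := by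
  obtain ⟨N, hN⟩ := hd.gen _ (rep m).2
  obtain ⟨c, hc⟩ := Ideal.mem_span_range_iff_exists_fun.1 hN
  refine ⟨N, c, ?_⟩
  conv_lhs => rw [← toCotangent_rep m, ← map_smul]
  rw [← toCotangent_sum]
  congr 1
  refine Subtype.ext ?_
  simp [hc]

theorem exists_pow_mul_mem {g : R} {r : ℕ} {a : Fin r → R} (hd : Dat J g a) {c : Fin r → R}
    (h : ∑ i, c i • J.toCotangent ⟨a i, hd.mem i⟩ = 0) (i : Fin r) : ∃ N : ℕ, g ^ N * c i ∈ J := by
  classical
  rw [← toCotangent_sum, Ideal.toCotangent_eq_zero] at h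
  let P : MvPolynomial (Fin r) R := ∑ j, C (c j) * X j
  have hP : P.IsHomogeneous 1 :=
    IsHomogeneous.sum _ _ _ fun j _ => (isHomogeneous_X R j).C_mul (c j)
  have hev : eval a P ∈ J ^ 2 := by
    simpa [P] using h
  obtain ⟨N, hN⟩ := hd.qr 1 P hP hev (Finsupp.single i 1)
  refine ⟨N, ?_⟩
  have : P.coeff (Finsupp.single i 1) = c i := by
    simp [P, coeff_sum, coeff_C_mul, coeff_X, Finsupp.single_left_inj]
  rwa [this] at hN

end Cotangent

section Free

open scoped nonZeroDivisors

variable {g : R} {r : ℕ} {a : Fin r → R}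

/-- `J/J²` is free with basis the classes of the `a i` after inverting `g`. -/
theorem bijective_lift (hd : Dat J g a) (T : Submonoid (R ⧸ J)) (hT : Ideal.Quotient.mk J g ∈ T) :
    Function.Bijective (Fintype.linearCombination (Localization T) fun i : Fin r =>
      LocalizedModule.mkLinearMap T J.Cotangent (J.toCotangent ⟨a i, hd.mem i⟩)) := by
  classical
  let f := LocalizedModule.mkLinearMap T J.Cotangent
  let v : Fin r → J.Cotangent := fun i => J.toCotangent ⟨a i, hd.mem i⟩
  let L := Fintype.linearCombination (Localization T) fun i => f (v i)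
  show Function.Bijective L
  have hL : ∀ c : Fin r → R ⧸ J,
      L (fun i => algebraMap (R ⧸ J) (Localization T) (c i)) = f (∑ i, c i • v i) := fun c => by
    simp [L, Fintype.linearCombination_apply, map_sum, map_smul, algebraMap_smul]
  refine ⟨?_, ?_⟩
  · refine LinearMap.ker_eq_bot.1 (LinearMap.ker_eq_bot'.2 fun w hw => ?_)
    obtain ⟨⟨s, hs⟩, hsw⟩ := IsLocalization.exist_integer_multiples_of_finite T w
    choose c hc using hsw
    have h0 : f (∑ i, c i • v i) = 0 := by
      rw [← hL, show (fun i => algebraMap (R ⧸ J) (Localization T) (c i)) = s • w from funext hc,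
        LinearMap.map_smul_of_tower, hw, smul_zero]
    obtain ⟨⟨t, ht⟩, ht0⟩ := (IsLocalizedModule.eq_zero_iff T f).1 h0
    rw [Submonoid.smul_def, Finset.smul_sum] at ht0
    simp only [smul_smul] at ht0
    choose d hd' using fun i => Ideal.Quotient.mk_surjective (I := J) (t * c i)
    have h1 : ∑ i, d i • J.toCotangent ⟨a i, hd.mem i⟩ = 0 := by
      refine Eq.trans (Finset.sum_congr rfl fun i _ => ?_) ht0
      rw [← hd' i, mk_smul]
    funext i
    obtain ⟨N, hN⟩ := exists_pow_mul_mem hd h1 i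
    have h2 : algebraMap (R ⧸ J) (Localization T) (Ideal.Quotient.mk J g ^ N * t * c i) = 0 := by
      rw [mul_assoc, ← hd', ← map_pow, ← map_mul, Ideal.Quotient.eq_zero_iff_mem.2 hN, map_zero]
    rw [map_mul, hc, Algebra.smul_def, ← mul_assoc, ← map_mul] at h2
    exact (IsUnit.mul_right_eq_zero (IsLocalization.map_units (Localization T)
      ⟨_, T.mul_mem (T.mul_mem (T.pow_mem hT N) ht) hs⟩)).1 h2
  · intro y
    obtain ⟨⟨m, s⟩, hy⟩ := IsLocalizedModule.surj T f y
    obtain ⟨N, c, hc⟩ := exists_smul_eq_sum hd m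
    have h1 : L (fun i => algebraMap (R ⧸ J) (Localization T) (Ideal.Quotient.mk J (c i))) =
        (Ideal.Quotient.mk J g ^ N * (s : R ⧸ J)) • y := by
      rw [hL, mul_smul, ← Submonoid.smul_def, hy, ← map_smul, ← map_pow, mk_smul, hc]
      simp only [mk_smul, v]
    obtain ⟨e, he⟩ := IsLocalization.map_units (Localization T)
      ⟨_, T.mul_mem (T.pow_mem hT N) s.2⟩
    refine ⟨(↑e⁻¹ : Localization T) • fun i => algebraMap (R ⧸ J) (Localization T) (Ideal.Quotient.mk J (c i)), ?_⟩
    rw [map_smul, h1, ← algebraMap_smul (Localization T) (Ideal.Quotient.mk J g ^ N * (s : R ⧸ J)) y,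
      show algebraMap (R ⧸ J) (Localization T) (Ideal.Quotient.mk J g ^ N * (s : R ⧸ J)) = e from he.symm,
      smul_smul, Units.inv_mul, one_smul]

theorem free_localized (hd : Dat J g a) (T : Submonoid (R ⧸ J)) (hT : Ideal.Quotient.mk J g ∈ T) :
    Module.Free (Localization T) (LocalizedModule T J.Cotangent) ∧
      Module.FinitePresentation (Localization T) (LocalizedModule T J.Cotangent) := by
  let e := LinearEquiv.ofBijective _ (bijective_lift hd T hT)
  exact ⟨Module.Free.of_equiv e, Module.finitePresentation_of_surjective e.toLinearMap e.surjective (by simp [Submodule.fg_bot])⟩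

end Free

theorem projective_cotangent (h : ∀ (P : Ideal R), P.IsPrime → J ≤ P →
    ∃ (g : R) (r : ℕ) (a : Fin r → R), g ∉ P ∧ Dat J g a) : Module.Projective (R ⧸ J) J.Cotangent := by
  have h' : ∀ Q : Ideal (R ⧸ J), Q.IsPrime → ∃ (g : R) (r : ℕ) (a : Fin r → R),
      Ideal.Quotient.mk J g ∉ Q ∧ Dat J g a := fun Q hQ => by
    obtain ⟨g, r, a, hg, hd⟩ := h (Q.comap (Ideal.Quotient.mk J)) inferInstance
      (fun x hx => by rw [Ideal.mem_comap, Ideal.Quotient.eq_zero_iff_mem.2 hx]; exact Q.zero_mem)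
    exact ⟨g, r, a, hg, hd⟩
  let s : Set (R ⧸ J) := {b | ∃ (g : R) (r : ℕ) (a : Fin r → R), b = Ideal.Quotient.mk J g ∧ Dat J g a}
  have hs : Ideal.span s = ⊤ := by
    by_contra hne
    obtain ⟨Q, hQ, hle⟩ := Ideal.exists_le_maximal _ hne
    obtain ⟨g, r, a, hg, hd⟩ := h' Q hQ.isPrime
    exact hg (hle (Ideal.subset_span ⟨g, r, a, rfl, hd⟩))
  haveI : Module.FinitePresentation (R ⧸ J) J.Cotangent := by
    refine Module.FinitePresentation.of_localizationSpan s hs fun b => ?_
    obtain ⟨g, r, a, hb, hd⟩ := b.2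
    exact (free_localized hd _ (hb ▸ Submonoid.mem_powers _)).2
  refine Module.projective_of_localization_maximal fun Q hQ => ?_
  obtain ⟨g, r, a, hg, hd⟩ := h' Q hQ.isPrime
  haveI := (free_localized hd Q.primeCompl hg).1
  exact Module.Projective.of_free

end Groth.Agent.H1QRSym
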