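import Groth.Agent.H1QRSym.Basic

/-!
# The maps `Sym^n(J/J²) → J^n/J^(n+1)`
-/

set_option linter.style.haveILetI false

universe u

open MvPolynomial Groth.Agent.PPLib

namespace Groth.Agent.H1QRSym

variable {R : Type u} [CommRing R] {J : Ideal R} {ι : Type u} [Fintype ι]

lemma prod_mem (x : ι → J) : ∏ i, (x i : R) ∈ J ^ Fintype.card ι := by
  simpa using PP16.prod_mem_pow J Finset.univ (fun i => (x i : R)) fun i _ => (x i).2

/-- The class of an element of `J^n`. -/
noncomputable def cls (n : ℕ) (x : R) (hx : x ∈ J ^ n) : PP16.grJ R J n := Submodule.Quotient.mk ⟨x, hx⟩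

lemma cls_eq {n : ℕ} {x y : R} {hx : x ∈ J ^ n} {hy : y ∈ J ^ n} (h : x - y ∈ J ^ (n + 1)) :
    cls n x hx = cls n y hy := (Submodule.Quotient.eq _).2 h

lemma rep_add_sub (m m' : J.Cotangent) :
    (rep (m + m') : R) - ((rep m : R) + rep m') ∈ J ^ 2 := by
  have := (J.toCotangent_eq (x := rep (m + m')) (y := rep m + rep m')).1
    (by rw [map_add, toCotangent_rep, toCotangent_rep, toCotangent_rep])
  simpa using this

lemma rep_smul_sub (c : R) (m : J.Cotangent) : (rep (c • m) : R) - c * rep m ∈ J ^ 2 := by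
  have := (J.toCotangent_eq (x := rep (c • m)) (y := c • rep m)).1
    (by rw [map_smul, toCotangent_rep, toCotangent_rep])
  simpa using this

lemma mul_prod_mem [DecidableEq ι] (m : ι → J.Cotangent) (i : ι) {z : R} (hz : z ∈ J ^ 2) :
    z * ∏ j ∈ Finset.univ \ {i}, (rep (m j) : R) ∈ J ^ (Fintype.card ι + 1) := by
  have h := Ideal.mul_mem_mul hz
    (PP16.prod_mem_pow J (Finset.univ \ {i}) (fun j => (rep (m j) : R)) fun j _ => (rep (m j)).2)
  rw [← pow_add] at h
  refine Ideal.pow_le_pow_right ?_ h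
  have hpos : 0 < Fintype.card ι := Fintype.card_pos_iff.2 ⟨i⟩
  simp [Finset.card_univ_sdiff]
  omega

/-- The multilinear map. -/
noncomputable def phiMulti (J : Ideal R) (ι : Type u) [Fintype ι] :
    MultilinearMap R (fun _ : ι => J.Cotangent) (PP16.grJ R J (Fintype.card ι)) where
  toFun m := cls _ _ (prod_mem fun i => rep (m i))
  map_update_add' {inst} m i x y := by
    change cls _ _ _ = Submodule.Quotient.mk (⟨_, _⟩ + ⟨_, _⟩)
    refine (Submodule.Quotient.eq _).2 ?_
    change (∏ j, (rep (Function.update m i (x + y) j) : R)) - ((∏ j, (rep (Function.update m i x j) : R))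
        + ∏ j, (rep (Function.update m i y j) : R)) ∈ J ^ (Fintype.card ι + 1)
    simp only [← Function.comp_apply (f := fun v : J.Cotangent => ((rep v : J) : R)), Function.comp_update,
      Finset.prod_update_of_mem (Finset.mem_univ i), ← add_mul, ← sub_mul]
    exact mul_prod_mem m i (rep_add_sub x y)
  map_update_smul' {inst} m i c x := by
    change cls _ _ _ = Submodule.Quotient.mk (c • (⟨_, _⟩ : ↥(J ^ Fintype.card ι)))
    refine (Submodule.Quotient.eq _).2 ?_
    change (∏ j, (rep (Function.update m i (c • x) j) : R)) - c * (∏ j, (rep (Function.update m i x j) : R))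
        ∈ J ^ (Fintype.card ι + 1)
    simp only [← Function.comp_apply (f := fun v : J.Cotangent => ((rep v : J) : R)), Function.comp_update,
      Finset.prod_update_of_mem (Finset.mem_univ i), ← mul_assoc, ← sub_mul]
    exact mul_prod_mem m i (rep_smul_sub c x)

omit [Fintype ι] in
lemma prod_sub_prod_mem : ∀ (s : Finset ι) (x y : ι → J), (∀ i, (x i : R) - y i ∈ J ^ 2) →
    (∏ i ∈ s, (x i : R)) - ∏ i ∈ s, (y i : R) ∈ J ^ (s.card + 1) := by
  classical
  intro s
  induction s using Finset.induction with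
  | empty => intro x y _; simp
  | insert i s hi ih =>
    intro x y h
    rw [Finset.prod_insert hi, Finset.prod_insert hi, Finset.card_insert_of_notMem hi,
      show (x i : R) * ∏ j ∈ s, (x j : R) - y i * ∏ j ∈ s, (y j : R) =
        (x i - y i) * ∏ j ∈ s, (x j : R) + y i * ((∏ j ∈ s, (x j : R)) - ∏ j ∈ s, (y j : R)) by ring]
    refine add_mem ?_ ?_
    · refine Ideal.pow_le_pow_right (le_of_eq (by omega)) (?_ : _ ∈ J ^ (2 + s.card))
      rw [pow_add]
      exact Ideal.mul_mem_mul (h i) (PP16.prod_mem_pow J s (fun j => (x j : R)) fun j _ => (x j).2)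
    · refine Ideal.pow_le_pow_right (le_of_eq (by omega)) (?_ : _ ∈ J ^ (1 + (s.card + 1)))
      rw [pow_add, pow_one]
      exact Ideal.mul_mem_mul (y i).2 (ih x y h)

/-- The canonical map. -/
noncomputable def phi (J : Ideal R) (ι : Type u) [Fintype ι] :
    SymmetricPower R ι J.Cotangent →ₗ[R] PP16.grJ R J (Fintype.card ι) :=
  symLift (phiMulti J ι) fun e x => cls_eq (by simp [Equiv.prod_comp e fun i => (rep (x i) : R)])

lemma phi_tprod (x : ι → J) :
    phi J ι (SymmetricPower.tprod R fun i => J.toCotangent (x i)) = PP16.zetaJ R J x := by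
  refine (symLift_tprod _ _ _).trans ?_
  exact cls_eq (prod_sub_prod_mem Finset.univ _ x fun i => (J.toCotangent_eq).1 (toCotangent_rep _))

lemma pow_le_span (J : Ideal R) : ∀ n : ℕ,
    J ^ n ≤ Ideal.span (Set.range fun x : Fin n → J => ∏ i, (x i : R))
  | 0 => by
    intro z _
    simp [Ideal.span_singleton_one]
  | n + 1 => by
    rw [pow_succ']
    refine (Ideal.mul_mono le_rfl (pow_le_span J n)).trans (Ideal.mul_le.2 fun a ha b hb => ?_)
    induction hb using Submodule.span_induction with
    | mem b hb =>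
      obtain ⟨x, rfl⟩ := hb
      exact Ideal.subset_span ⟨Fin.cons ⟨a, ha⟩ x, by simp [Fin.prod_univ_succ]⟩
    | zero => simp
    | add u v _ _ hu hv => rw [mul_add]; exact add_mem hu hv
    | smul c u _ hu => rw [smul_eq_mul, mul_left_comm]; exact Ideal.mul_mem_left _ _ hu

theorem phi_surjective : Function.Surjective (phi J ι) := by
  intro q
  obtain ⟨⟨z, hz⟩, rfl⟩ := Submodule.Quotient.mk_surjective _ q
  refine LinearMap.mem_range.1 ?_
  let L : Submodule R R :=
    ((LinearMap.range (phi J ι)).comap (Submodule.mkQ _)).map (J ^ Fintype.card ι).subtype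
  have hle : J ^ Fintype.card ι ≤ L := by
    refine (pow_le_span J _).trans (Ideal.span_le.2 ?_)
    rintro _ ⟨x, rfl⟩
    let y : ι → J := x ∘ Fintype.equivFin ι
    refine ⟨⟨∏ i, (y i : R), prod_mem y⟩, ⟨_, phi_tprod y⟩, ?_⟩
    exact Equiv.prod_comp (Fintype.equivFin ι) fun j => (x j : R)
  obtain ⟨w, hw, e⟩ := hle hz
  cases Subtype.ext (a1 := w) (a2 := ⟨z, hz⟩) e
  exact hw

lemma phi_eq_of_rule (φ : SymmetricPower R ι J.Cotangent →ₗ[R] PP16.grJ R J (Fintype.card ι))
    (h : ∀ x : ι → ↥J, φ (SymmetricPower.tprod R (fun i => J.toCotangent (x i))) = PP16.zetaJ R J x) :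
    φ = phi J ι :=
  sym_ext fun m => by
    have e : m = fun i => J.toCotangent (rep (m i)) := funext fun i => (toCotangent_rep _).symm
    rw [e, h, phi_tprod]

lemma smul_sym_eq_zero [Nonempty ι] {c : R} (hc : c ∈ J) (z : SymmetricPower R ι J.Cotangent) :
    c • z = 0 := by
  classical
  have h : c • (LinearMap.id : SymmetricPower R ι J.Cotangent →ₗ[R] _) = 0 := sym_ext fun m => by
    obtain ⟨i⟩ := ‹Nonempty ι›
    show c • SymmetricPower.tprod R m = 0
    conv_lhs => rw [← Function.update_eq_self i m, ← MultilinearMap.map_update_smul, smul_eq_zero hc]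
    exact (SymmetricPower.tprod R).map_coord_zero i (Function.update_self i (0 : J.Cotangent) m)
  exact LinearMap.congr_fun h z

section Local

variable {g : R} {r : ℕ} {a : Fin r → R}

/-- A monomial in the classes of the `a i`. -/
noncomputable def cprod (hd : ∀ i, a i ∈ J) (c : ι → Fin r) : SymmetricPower R ι J.Cotangent :=
  SymmetricPower.tprod R fun i => J.toCotangent ⟨a (c i), hd (c i)⟩

open Classical in
/-- Polynomials to symmetric products of the classes. -/
noncomputable def polyToSym (hd : ∀ i, a i ∈ J) : MvPolynomial (Fin r) R →ₗ[R] SymmetricPower R ι J.Cotangent :=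
  (basisMonomials (Fin r) R).constr R fun d =>
    if h : ∃ c : ι → Fin r, mult c = d then cprod hd h.choose else 0

lemma polyToSym_monomial (hd : ∀ i, a i ∈ J) (c : ι → Fin r) :
    polyToSym hd (∏ i, X (c i)) = cprod hd c := by
  classical
  rw [prod_X_eq_monomial, ← show (basisMonomials (Fin r) R) (mult c) = monomial (mult c) 1 from
    congrFun (coe_basisMonomials (Fin r) R) _, polyToSym, Module.Basis.constr_basis]
  have h : ∃ c' : ι → Fin r, mult c' = mult c := ⟨c, rfl⟩
  rw [dif_pos h]
  obtain ⟨e, he⟩ := exists_perm_of_mult_eq h.choose_spec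
  rw [he]
  exact SymmetricPower.tprod_equiv e fun i => J.toCotangent ⟨a (c i), hd (c i)⟩

variable [Nonempty ι]

theorem exists_pow_smul_eq_polyToSym (hd : Dat J g a) (z : SymmetricPower R ι J.Cotangent) :
    ∃ (N : ℕ) (P : MvPolynomial (Fin r) R) (hP : eval a P ∈ J ^ Fintype.card ι),
      P.IsHomogeneous (Fintype.card ι) ∧ g ^ N • z = polyToSym hd.mem P ∧
        phi J ι (g ^ N • z) = cls _ (eval a P) hP := by
  classical
  have hmem : z ∈ Submodule.span R (Set.range (SymmetricPower.tprod R (ι := ι) (M := J.Cotangent))) := by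
    rw [SymmetricPower.span_tprod_eq_top]; trivial
  induction hmem using Submodule.span_induction with
  | mem x hx =>
    obtain ⟨m, rfl⟩ := hx
    choose N c hc using fun i => exists_smul_eq_sum hd (m i)
    let P : MvPolynomial (Fin r) R := ∏ i, ∑ j, C (c i j) * X j
    have hP : P.IsHomogeneous (Fintype.card ι) := by
      have := IsHomogeneous.prod Finset.univ (fun i => ∑ j, C (c i j) * (X j : MvPolynomial (Fin r) R))
        (fun _ : ι => 1) fun i _ => IsHomogeneous.sum _ _ _ fun j _ => (isHomogeneous_X R j).C_mul (c i j)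
      simpa using this
    let y : ι → J := fun i => ∑ j, c i j • (⟨a j, hd.mem j⟩ : J)
    have hy : ∀ i, J.toCotangent (y i) = g ^ N i • m i := fun i => by
      rw [hc i, toCotangent_sum]
    have hev : eval a P = ∏ i, (y i : R) := by
      simp [P, y]
    have e1 : g ^ (∑ i, N i) • SymmetricPower.tprod R m =
        SymmetricPower.tprod R fun i => J.toCotangent (y i) := by
      simp only [hy]
      rw [MultilinearMap.map_smul_univ, Finset.prod_pow_eq_pow_sum]
    refine ⟨∑ i, N i, P, hev ▸ prod_mem y, hP, ?_, ?_⟩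
    · rw [e1, show P = ∑ f : ι → Fin r, C (∏ i, c i (f i)) * ∏ i, X (f i) by
        simp only [P, Fintype.prod_sum, Finset.prod_mul_distrib, map_prod], map_sum]
      simp only [← smul_eq_C_mul, map_smul, polyToSym_monomial, cprod]
      rw [show (fun i => J.toCotangent (y i)) = fun i => ∑ j, c i j • J.toCotangent ⟨a j, hd.mem j⟩ from
        funext fun i => toCotangent_sum _ _ _, MultilinearMap.map_sum]
      exact Finset.sum_congr rfl fun f _ => MultilinearMap.map_smul_univ _ _ _
    · rw [e1, phi_tprod]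
      exact cls_eq (by simp [hev])
  | zero => exact ⟨0, 0, by simp, isHomogeneous_zero _ _ _, by simp, by simp only [smul_zero, map_zero]; exact (Submodule.Quotient.mk_zero _).symm⟩
  | add x y _ _ hx hy =>
    obtain ⟨N, P, hP, hPh, e1, e2⟩ := hx
    obtain ⟨M, Q, hQ, hQh, f1, f2⟩ := hy
    refine ⟨N + M, C (g ^ M) * P + C (g ^ N) * Q, ?_, (hPh.C_mul _).add (hQh.C_mul _), ?_, ?_⟩
    · simp only [map_add, map_mul, eval_C]
      exact add_mem (Ideal.mul_mem_left _ _ hP) (Ideal.mul_mem_left _ _ hQ)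
    · rw [map_add, ← smul_eq_C_mul, ← smul_eq_C_mul, map_smul, map_smul, ← e1, ← f1, smul_add,
        pow_add, mul_smul, mul_smul, smul_comm (g ^ M)]
    · rw [smul_add, map_add, show g ^ (N + M) • x = g ^ M • g ^ N • x by rw [smul_smul, ← pow_add, add_comm],
        show g ^ (N + M) • y = g ^ N • g ^ M • y by rw [smul_smul, ← pow_add],
        map_smul (phi J ι) (g ^ M) (g ^ N • x), map_smul (phi J ι) (g ^ N) (g ^ M • y), e2, f2]
      simp only [cls]
      rw [← Submodule.Quotient.mk_smul, ← Submodule.Quotient.mk_smul, ← Submodule.Quotient.mk_add]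
      congr 1
      exact Subtype.ext (by simp)
  | smul c x _ hx =>
    obtain ⟨N, P, hP, hPh, e1, e2⟩ := hx
    refine ⟨N, C c * P, ?_, hPh.C_mul _, ?_, ?_⟩
    · simp only [map_mul, eval_C]
      exact Ideal.mul_mem_left _ _ hP
    · rw [← smul_eq_C_mul, map_smul, ← e1, smul_comm]
    · rw [smul_comm, map_smul, e2]
      simp only [cls]
      rw [← Submodule.Quotient.mk_smul]
      congr 1
      exact Subtype.ext (by simp)

theorem exists_pow_smul_eq_zero (hd : Dat J g a) {z : SymmetricPower R ι J.Cotangent}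
    (hz : phi J ι z = 0) : ∃ N : ℕ, g ^ N • z = 0 := by
  classical
  obtain ⟨N, P, hP, hPh, e1, e2⟩ := exists_pow_smul_eq_polyToSym hd z
  rw [map_smul, hz, smul_zero] at e2
  have hev : eval a P ∈ J ^ (Fintype.card ι + 1) :=
    (Submodule.Quotient.mk_eq_zero (Submodule.comap (J ^ Fintype.card ι).subtype (J ^ (Fintype.card ι + 1)))
      (x := ⟨eval a P, hP⟩)).1 e2.symm
  choose M hM using hd.qr _ P hPh hev
  refine ⟨(∑ d ∈ P.support, M d) + N, ?_⟩
  rw [pow_add, mul_smul, e1, P.as_sum, map_sum, Finset.smul_sum]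
  rw [← P.as_sum]
  refine Finset.sum_eq_zero fun d hd' => ?_
  rw [show monomial d (P.coeff d) = P.coeff d • (monomial d 1 : MvPolynomial (Fin r) R) by simp [smul_monomial],
    map_smul, smul_smul]
  refine smul_sym_eq_zero ?_ _
  obtain ⟨k, hk⟩ := Nat.exists_eq_add_of_le (Finset.single_le_sum (fun e _ => Nat.zero_le (M e)) hd')
  rw [hk, add_comm, pow_add, mul_assoc]
  exact Ideal.mul_mem_left _ _ (hM d)

end Local

theorem phi_injective [Nonempty ι] (h : ∀ (P : Ideal R), P.IsPrime → J ≤ P →
    ∃ (g : R) (r : ℕ) (a : Fin r → R), g ∉ P ∧ Dat J g a) : Function.Injective (phi J ι) := by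
  rw [← LinearMap.ker_eq_bot, LinearMap.ker_eq_bot']
  intro z hz
  by_contra hne
  let A : Ideal R := LinearMap.ker (LinearMap.toSpanSingleton R _ z)
  have hA : A ≠ ⊤ := fun e => hne (by
    have : (1 : R) ∈ A := e ▸ trivial
    simpa [A] using this)
  obtain ⟨P, hP, hle⟩ := Ideal.exists_le_maximal _ hA
  by_cases hJP : J ≤ P
  · obtain ⟨g, r, a, hg, hd⟩ := h P hP.isPrime hJP
    obtain ⟨N, hN⟩ := exists_pow_smul_eq_zero hd hz
    exact hg (hP.isPrime.mem_of_pow_mem N (hle (by simpa [A] using hN)))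
  · obtain ⟨j, hj, hjP⟩ := SetLike.not_le_iff_exists.1 hJP
    exact hjP (hle (by simpa [A] using smul_sym_eq_zero hj z))

theorem symGrBijective_of_dat (h : ∀ (P : Ideal R), P.IsPrime → J ≤ P →
    ∃ (g : R) (r : ℕ) (a : Fin r → R), g ∉ P ∧ Dat J g a) : PP16.SymGrBijective R J :=
  fun ι _ _ => ⟨phi J ι, phi_tprod, phi_injective h, phi_surjective⟩

end Groth.Agent.H1QRSym
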