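import Mathlib.RingTheory.Localization.Free
import Groth.Agent.H1QRSym.Sym

/-!
# From projective conormal module and bijective symmetric maps to quasi-regularity
-/

set_option linter.style.haveILetI false

universe u

open MvPolynomial Groth.Agent.PPLib

namespace Groth.Agent.H1QRSym

variable {R : Type u} [CommRing R] {J : Ideal R}

lemma exists_mult {σ : Type*} : ∀ (n : ℕ) (d : σ →₀ ℕ), d.degree = n →
    ∃ c : Fin n → σ, mult c = d
  | 0, d, h => ⟨Fin.elim0, by rw [(Finsupp.degree_eq_zero_iff d).1 h]; simp [mult]⟩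
  | n + 1, d, h => by
    classical
    obtain ⟨s, hs⟩ : ∃ s, d s ≠ 0 := by
      by_contra hne
      push_neg at hne
      rw [show d = 0 from Finsupp.ext hne, map_zero] at h
      omega
    have hd : d = Finsupp.single s 1 + (d - Finsupp.single s 1) :=
      (add_tsub_cancel_of_le (Finsupp.single_le_iff.2 (Nat.one_le_iff_ne_zero.2 hs))).symm
    have hdeg := congrArg Finsupp.degree hd
    rw [map_add, h, Finsupp.degree_single] at hdeg
    obtain ⟨c, hc⟩ := exists_mult n (d - Finsupp.single s 1) (by omega)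
    exact ⟨Fin.cons s c, by rw [mult, Fin.sum_univ_succ, hd, ← hc, mult]; simp⟩

lemma exists_mult_ulift {σ : Type*} {n : ℕ} {d : σ →₀ ℕ} (h : d.degree = n) :
    ∃ c : ULift.{u} (Fin n) → σ, mult c = d := by
  obtain ⟨c, hc⟩ := exists_mult n d h
  refine ⟨c ∘ ULift.down, ?_⟩
  rw [mult, ← hc, mult]
  exact Equiv.sum_comp Equiv.ulift fun i => Finsupp.single (c i) 1

lemma mk_pow_mul_eq_zero {g c : R} :
    algebraMap (R ⧸ J) (Localization (Submonoid.powers (Ideal.Quotient.mk J g))) (Ideal.Quotient.mk J c) = 0 →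
      ∃ N : ℕ, g ^ N * c ∈ J := fun h => by
  obtain ⟨⟨_, N, rfl⟩, h0⟩ := (IsLocalization.map_eq_zero_iff (Submonoid.powers (Ideal.Quotient.mk J g)) _ _).1 h
  exact ⟨N, Ideal.Quotient.eq_zero_iff_mem.1 (by simpa using h0)⟩

theorem qr_of_basis (hbij : PP16.SymGrBijective R J) {g : R} {r : ℕ} {a : Fin r → R} (ha : ∀ i, a i ∈ J)
    (b : Module.Basis (Fin r) (Localization (Submonoid.powers (Ideal.Quotient.mk J g)))
      (LocalizedModule (Submonoid.powers (Ideal.Quotient.mk J g)) J.Cotangent))
    (hb : ∀ i, b i = LocalizedModule.mkLinearMap _ J.Cotangent (J.toCotangent ⟨a i, ha i⟩))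
    (n : ℕ) (P : MvPolynomial (Fin r) R) (hP : P.IsHomogeneous n) (hev : eval a P ∈ J ^ (n + 1))
    (d : Fin r →₀ ℕ) : ∃ N : ℕ, g ^ N * P.coeff d ∈ J := by
  classical
  by_cases hd : d.degree = n
  swap
  · exact ⟨0, by simp [hP.coeff_eq_zero hd]⟩
  obtain rfl | hn := Nat.eq_zero_or_pos n
  · refine ⟨0, ?_⟩
    have hC : P = C (P.coeff 0) := by
      ext e
      by_cases he : e = 0
      · simp [he]
      · rw [coeff_C, if_neg (Ne.symm he), hP.coeff_eq_zero fun h => he ((Finsupp.degree_eq_zero_iff e).1 h)]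
    rw [hC, eval_C, zero_add, pow_one] at hev
    rw [(Finsupp.degree_eq_zero_iff d).1 hd]
    simpa using hev
  let ι := ULift.{u} (Fin n)
  haveI : Nonempty ι := ⟨⟨⟨0, hn⟩⟩⟩
  have hcard : Fintype.card ι = n := by simp [ι]
  have hc : ∀ e : {e // e ∈ P.support}, ∃ c : ι → Fin r, mult c = e.1 := fun e =>
    exists_mult_ulift (by
      by_contra hne
      exact (mem_support_iff.1 e.2) (hP.coeff_eq_zero hne))
  choose c hc using hc
  let z : SymmetricPower R ι J.Cotangent := ∑ e : {e // e ∈ P.support}, P.coeff e.1 • cprod ha (c e)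
  obtain ⟨φ, hφ, hφb⟩ := hbij ι
  have hmon : ∀ (e : {e // e ∈ P.support}) (S : Type u) [CommRing S],
      ∏ i, (X (c e i) : MvPolynomial (Fin r) S) = monomial e.1 1 := fun e S _ => by
    rw [prod_X_eq_monomial, hc]
  have hz : z = 0 := by
    refine hφb.1 ?_
    rw [map_zero, map_sum, Finset.sum_congr rfl fun e _ =>
      show φ (P.coeff e.1 • cprod ha (c e)) = (Submodule.comap (J ^ Fintype.card ι).subtype (J ^ (Fintype.card ι + 1))).mkQ
        (P.coeff e.1 • ⟨∏ i, a (c e i), prod_mem fun i => ⟨a (c e i), ha (c e i)⟩⟩) by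
        rw [map_smul, map_smul]
        exact congrArg (P.coeff e.1 • ·) (hφ fun i => ⟨a (c e i), ha (c e i)⟩), ← map_sum]
    refine (Submodule.Quotient.mk_eq_zero _).2 ?_
    rw [Submodule.mem_comap, map_sum]
    have : eval a P = ∑ e : {e // e ∈ P.support}, P.coeff e.1 * ∏ i, a (c e i) := by
      conv_lhs => rw [P.as_sum]
      rw [map_sum, ← Finset.sum_coe_sort]
      refine Finset.sum_congr rfl fun e _ => ?_
      have := congrArg (eval a) (hmon e R)
      rw [map_prod] at this
      simp only [eval_X] at this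
      rw [this, eval_monomial, eval_monomial, one_mul]
    simp only [Submodule.subtype_apply, Submodule.coe_smul, smul_eq_mul, ← this]
    rw [congrArg (fun m => J ^ (m + 1)) hcard]
    exact hev
  let T := Submonoid.powers (Ideal.Quotient.mk J g)
  let f := LocalizedModule.mkLinearMap T J.Cotangent
  let lin : (Fin r →₀ Localization T) →ₗ[Localization T] MvPolynomial (Fin r) (Localization T) := linForm
  let L : J.Cotangent →ₗ[R] MvPolynomial (Fin r) (Localization T) :=
    { toFun := fun m => lin (b.repr (f m))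
      map_add' := fun x y => by simp
      map_smul' := fun s m => by
        rw [← mk_smul, map_smul, ← algebraMap_smul (Localization T) (Ideal.Quotient.mk J s) (f m), map_smul,
          map_smul, RingHom.id_apply, show algebraMap (R ⧸ J) (Localization T) (Ideal.Quotient.mk J s) =
            algebraMap R (Localization T) s from (IsScalarTower.algebraMap_apply R (R ⧸ J) _ s).symm,
          algebraMap_smul] }
  let Ψ : SymmetricPower R ι J.Cotangent →ₗ[R] MvPolynomial (Fin r) (Localization T) :=
    symLift ((MultilinearMap.mkPiAlgebra R ι (MvPolynomial (Fin r) (Localization T))).compLinearMap fun _ => L)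
      fun e x => by simp [Equiv.prod_comp e fun i => L (x i)]
  have hL : ∀ i, L (J.toCotangent ⟨a i, ha i⟩) = X i := fun i => by
    show lin (b.repr (f _)) = X i
    rw [← hb, b.repr_self]
    exact (linForm_single i 1).trans (one_smul _ _)
  have hΨ : Ψ z = MvPolynomial.map (algebraMap R (Localization T)) P := by
    conv_rhs => rw [P.as_sum]
    rw [map_sum (MvPolynomial.map _), ← Finset.sum_coe_sort, map_sum Ψ]
    refine Finset.sum_congr rfl fun e _ => ?_
    rw [map_smul, show Ψ (cprod ha (c e)) = ∏ i, X (c e i) from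
      ((symLift_tprod _ _ _).trans ((MultilinearMap.compLinearMap_apply _ _ _).trans
      ((MultilinearMap.mkPiAlgebra_apply _).trans (Finset.prod_congr rfl fun i _ => hL (c e i))))), hmon,
      map_monomial, smul_monomial, Algebra.smul_def, mul_one]
  rw [hz, map_zero] at hΨ
  have h0 := congrArg (coeff d) hΨ
  rw [coeff_zero, coeff_map, IsScalarTower.algebraMap_apply R (R ⧸ J)] at h0
  exact mk_pow_mul_eq_zero h0.symm

theorem exists_dat_of_symGrBijective (hfg : J.FG) (hproj : Module.Projective (R ⧸ J) J.Cotangent)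
    (hbij : PP16.SymGrBijective R J) (P : Ideal R) [P.IsPrime] (hJP : J ≤ P) :
    ∃ (g : R) (r : ℕ) (a : Fin r → R), g ∉ P ∧ Dat J g a := by
  classical
  haveI : Module.Finite R J := Module.Finite.iff_fg.2 hfg
  haveI : Module.Finite R J.Cotangent := Module.Finite.of_surjective J.toCotangent J.toCotangent_surjective
  haveI : Module.Finite (R ⧸ J) J.Cotangent := Module.Finite.of_restrictScalars_finite R _ _
  haveI := hproj
  haveI : Module.FinitePresentation (R ⧸ J) J.Cotangent := Module.finitePresentation_of_projective _ _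
  let Q := P.map (Ideal.Quotient.mk J)
  have hker : RingHom.ker (Ideal.Quotient.mk J) ≤ P := by rwa [Ideal.mk_ker]
  haveI : Q.IsPrime := Ideal.map_isPrime_of_surjective Ideal.Quotient.mk_surjective hker
  haveI : Module.Free (Localization.AtPrime Q) (LocalizedModule Q.primeCompl J.Cotangent) :=
    Module.free_of_flat_of_isLocalRing
  obtain ⟨b₀, hb₀, hfree, -⟩ := Module.FinitePresentation.exists_free_localizedModule_powers
    Q.primeCompl (LocalizedModule.mkLinearMap Q.primeCompl J.Cotangent) (Localization.AtPrime Q)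
  obtain ⟨g, rfl⟩ := Ideal.Quotient.mk_surjective b₀
  have hgP : g ∉ P := fun h => hb₀ (Ideal.mem_map_of_mem _ h)
  let T := Submonoid.powers (Ideal.Quotient.mk J g)
  let f := LocalizedModule.mkLinearMap T J.Cotangent
  haveI : Module.Free (Localization T) (LocalizedModule T J.Cotangent) := hfree
  haveI : Module.Finite (Localization T) (LocalizedModule T J.Cotangent) :=
    Module.Finite.of_isLocalizedModule T f
  haveI : Nontrivial (Localization T) := by
    refine (show Localization T →+* Localization.AtPrime Q from IsLocalization.map (M := T) (T := Q.primeCompl) _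
      (RingHom.id _) (Submonoid.powers_le.2 hb₀)).domain_nontrivial
  let b := (Module.Free.chooseBasis (Localization T) (LocalizedModule T J.Cotangent)).reindex
    (Fintype.equivFin _)
  have hnum := fun i => IsLocalizedModule.surj T f (b i)
  choose ms hms using hnum
  let w := fun i => (IsLocalization.map_units (Localization T) (ms i).2).unit
  let b' := b.unitsSMul w
  let a := fun i => (rep (ms i).1 : R)
  have ha : ∀ i, a i ∈ J := fun i => (rep (ms i).1).2
  have hb' : ∀ i, b' i = f (J.toCotangent ⟨a i, ha i⟩) := fun i => by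
    rw [Module.Basis.unitsSMul_apply, Units.smul_def, IsUnit.unit_spec, algebraMap_smul, toCotangent_rep]
    exact hms i
  -- generation modulo `J²`
  let S := Localization.Away g
  let φ := algebraMap R S
  have hgen : ∀ x ∈ J, φ x ∈ (Ideal.span (Set.range a)).map φ ⊔ J.map φ • J.map φ := fun x hx => by
    have hrepr := b'.sum_repr (f (J.toCotangent ⟨x, hx⟩))
    obtain ⟨⟨_, k, rfl⟩, hs⟩ := IsLocalization.exist_integer_multiples_of_finite T
      (fun i => b'.repr (f (J.toCotangent ⟨x, hx⟩)) i)
    choose c hc using hs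
    choose d hd using fun i => Ideal.Quotient.mk_surjective (I := J) (c i)
    have h1 : f (g ^ k • J.toCotangent ⟨x, hx⟩ - ∑ i, d i • J.toCotangent ⟨a i, ha i⟩) = 0 := by
      simp only [← mk_smul, map_sub, map_sum, map_smul, map_pow, hd, ← hb', sub_eq_zero]
      conv_lhs => rw [← hrepr, Finset.smul_sum]
      exact Finset.sum_congr rfl fun i _ => by
        rw [← smul_assoc, ← algebraMap_smul (Localization T) (c i), hc i]
    obtain ⟨⟨_, l, rfl⟩, h2⟩ := (IsLocalizedModule.eq_zero_iff T f).1 h1
    rw [Submonoid.smul_def] at h2; simp only [← map_pow, mk_smul] at h2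
    simp only [← map_smul, ← map_sum, ← map_sub, Ideal.toCotangent_eq_zero] at h2
    simp only [Submodule.coe_smul, smul_eq_mul, AddSubgroupClass.coe_sub, AddSubmonoidClass.coe_finsetSum] at h2
    have h3 : φ (g ^ l * (g ^ k * x)) ∈ (Ideal.span (Set.range a)).map φ ⊔ J.map φ • J.map φ := by
      rw [show g ^ l * (g ^ k * x) = g ^ l * (g ^ k * x - ∑ i, d i * a i) + g ^ l * ∑ i, d i * a i by ring,
        map_add]
      refine add_mem (Submodule.mem_sup_right ?_) (Submodule.mem_sup_left (Ideal.mem_map_of_mem φ ?_))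
      · rw [smul_eq_mul, ← Ideal.map_mul, ← pow_two]
        exact Ideal.mem_map_of_mem φ h2
      · exact Ideal.mul_mem_left _ _ (sum_mem fun i _ => Ideal.mul_mem_left _ _ (Ideal.subset_span ⟨i, rfl⟩))
    rw [← mul_assoc, ← pow_add, map_mul] at h3
    exact (Ideal.unit_mul_mem_iff_mem _ (IsLocalization.map_units S
      (⟨g ^ (l + k), l + k, rfl⟩ : Submonoid.powers g))).1 h3
  obtain ⟨u, hu1, hu2⟩ := Submodule.exists_sub_one_mem_and_smul_le_of_fg_of_le_sup (I := J.map φ)
    (N := (Ideal.span (Set.range a)).map φ) (hfg.map φ) le_rfl (Ideal.map_le_iff_le_comap.2 hgen)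
  obtain ⟨h, ⟨_, k, rfl⟩, rfl⟩ := IsLocalization.exists_mk'_eq (Submonoid.powers g) u
  have hspec := IsLocalization.mk'_spec S h (⟨g ^ k, k, rfl⟩ : Submonoid.powers g)
  have hhP : h ∉ P := by
    intro hh
    have : φ (h - g ^ k) ∈ J.map φ := by
      rw [map_sub, show φ h = IsLocalization.mk' S h (⟨g ^ k, k, rfl⟩ : Submonoid.powers g) * φ (g ^ k) from hspec.symm,
        ← sub_one_mul]
      exact Ideal.mul_mem_right _ _ hu1
    obtain ⟨N, hN⟩ := (algebraMap_mem_map_away g J _).1 this
    have h1 := (Ideal.IsPrime.mem_or_mem ‹P.IsPrime› (hJP hN)).resolve_left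
      fun hc => hgP (Ideal.IsPrime.mem_of_pow_mem ‹P.IsPrime› N hc)
    exact hgP (Ideal.IsPrime.mem_of_pow_mem ‹P.IsPrime› k (by simpa using P.sub_mem hh h1))
  refine ⟨g * h, _, a, fun hc => (Ideal.IsPrime.mem_or_mem ‹P.IsPrime› hc).elim hgP hhP, ha,
    fun x hx => ?_, fun n Q hQ hev d => ?_⟩
  · have : φ (h * x) ∈ (Ideal.span (Set.range a)).map φ := by
      rw [map_mul, show φ h = IsLocalization.mk' S h (⟨g ^ k, k, rfl⟩ : Submonoid.powers g) * φ (g ^ k) from hspec.symm,
        mul_right_comm]
      exact Ideal.mul_mem_right _ _ (hu2 (Submodule.smul_mem_pointwise_smul _ _ _ (Ideal.mem_map_of_mem φ hx)))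
    obtain ⟨N, hN⟩ := (algebraMap_mem_map_away g _ _).1 this
    refine ⟨N + 1, ?_⟩
    rw [show (g * h) ^ (N + 1) * x = g * h ^ N * (g ^ N * (h * x)) by ring]
    exact Ideal.mul_mem_left _ _ hN
  · obtain ⟨N, hN⟩ := qr_of_basis hbij ha b' hb' n Q hQ hev d
    exact ⟨N, by rw [mul_pow, mul_right_comm]; exact Ideal.mul_mem_right _ _ hN⟩

theorem quasiRegular_away {g : R} {r : ℕ} {a : Fin r → R} (hd : Dat J g a) :
    CAlgX.IsQuasiRegular (fun i => algebraMap R (Localization.Away g) (a i)) ∧
      Ideal.span (Set.range fun i => algebraMap R (Localization.Away g) (a i)) =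
        J.map (algebraMap R (Localization.Away g)) := by
  classical
  let S := Localization.Away g
  let φ := algebraMap R S
  have hspan : Ideal.span (Set.range fun i => φ (a i)) = J.map φ := by
    refine le_antisymm (Ideal.span_le.2 ?_) (Ideal.map_le_iff_le_comap.2 fun x hx => ?_)
    · rintro _ ⟨i, rfl⟩
      exact Ideal.mem_map_of_mem φ (hd.mem i)
    · rw [Ideal.mem_comap, show Ideal.span (Set.range fun i => φ (a i)) = (Ideal.span (Set.range a)).map φ by
        rw [Ideal.map_span, ← Set.range_comp]; rfl]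
      exact (algebraMap_mem_map_away g _ x).2 (hd.gen x hx)
  refine ⟨fun n P hP hev d => ?_, hspan⟩
  obtain ⟨⟨_, k, rfl⟩, hs⟩ := IsLocalization.exist_integer_multiples (Submonoid.powers g) P.support fun e => P.coeff e
  choose c hc using hs
  let P' : MvPolynomial (Fin r) R := ∑ e : {e // e ∈ P.support}, monomial e.1 (c e.1 e.2)
  have hP' : P'.IsHomogeneous n := IsHomogeneous.sum _ _ _ fun e _ => isHomogeneous_monomial _ (by
    by_contra hne
    exact (mem_support_iff.1 e.2) (hP.coeff_eq_zero hne))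
  have hmap : MvPolynomial.map φ P' = C (φ (g ^ k)) * P := by
    conv_rhs => rw [P.as_sum, ← Finset.sum_coe_sort, Finset.mul_sum]
    rw [map_sum]
    refine Finset.sum_congr rfl fun e _ => ?_
    rw [map_monomial, C_mul_monomial]
    congr 1
    exact (hc e.1 e.2).trans (Algebra.smul_def _ _)
  rw [hspan, ← Ideal.map_pow] at hev
  have hev' : φ (eval a P') ∈ (J ^ (n + 1)).map φ := by
    rw [show φ (eval a P') = eval (fun i => φ (a i)) (MvPolynomial.map φ P') by
      rw [eval_map]; exact eval₂_comp φ a P', hmap, map_mul, eval_C]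
    exact Ideal.mul_mem_left _ _ hev
  obtain ⟨m, hm⟩ := (algebraMap_mem_map_away g _ _).1 hev'
  obtain ⟨N, hN⟩ := hd.qr n (C (g ^ m) * P') (hP'.C_mul _) (by simpa using hm) d
  rw [coeff_C_mul, ← mul_assoc, ← pow_add] at hN
  have h1 : φ (g ^ (N + m) * P'.coeff d) ∈ J.map φ := Ideal.mem_map_of_mem φ hN
  rw [map_mul, ← coeff_map φ P' d, hmap, coeff_C_mul, ← mul_assoc, ← map_mul, ← pow_add] at h1
  rw [hspan]
  exact (Ideal.unit_mul_mem_iff_mem _ (IsLocalization.map_units S
    (⟨g ^ (N + m + k), N + m + k, rfl⟩ : Submonoid.powers g))).1 h1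

theorem iff_quasiRegular (R : Type u) [CommRing R] (J : Ideal R) : PP16.IsLocallyQuasiRegular R J ↔
    J.FG ∧ Module.Projective (R ⧸ J) J.Cotangent ∧ PP16.SymGrBijective R J := by
  constructor
  · intro hq
    have h : ∀ (P : Ideal R), P.IsPrime → J ≤ P →
        ∃ (g : R) (r : ℕ) (a : Fin r → R), g ∉ P ∧ Dat J g a := fun P hP hle => exists_dat hq P hle
    exact ⟨fg_of_dat h, projective_cotangent h, symGrBijective_of_dat h⟩
  · rintro ⟨hfg, hproj, hbij⟩ P hP hle
    obtain ⟨g, r, a, hg, hd⟩ := exists_dat_of_symGrBijective hfg hproj hbij P hle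
    exact ⟨g, hg, r, _, quasiRegular_away hd⟩

end Groth.Agent.H1QRSym
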